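import Groth.Agent.Lib.Ample.GenLocus
import Groth.Agent.Lib.TensorMod.GenLocal

/-!
# Trivialisations normalised along a section
-/

universe u

noncomputable section

open CategoryTheory CategoryTheory.Limits AlgebraicGeometry Opposite TopologicalSpace

namespace Groth.Agent.H24.AffSpPic

open Groth.Agent.Lib.TensorMod Groth.Agent.Lib.TensorMod.Dual Groth.Agent.Lib.TensorMod.Gen
  Groth.Agent.Lib.TensorMod.Pullback Groth.Agent.Lib.Ample.GenLocus

variable {E X : Scheme.{u}} {p : E ⟶ X} {s : X ⟶ E}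

/-- If `L` is generated over preimages of opens of `X`, is trivial along the section `s`, and units on
such preimages are detected by `s`, then `L` is trivial. -/
theorem trivial_of_local (hsp : s ≫ p = 𝟙 X) (L : E.Modules)
    (hloc : ∀ x : X, ∃ (V : X.Opens) (_ : x ∈ V) (e : Γ(L, p ⁻¹ᵁ V)), IsGen L (p ⁻¹ᵁ V) e)
    (hker : ∀ (V : X.Opens) (a : Γ(E, p ⁻¹ᵁ V)), IsUnit a → (s.app (p ⁻¹ᵁ V)).hom a = 1 → a = 1)
    (i : (pb s).obj L ≅ Coh.structureModule X) : Nonempty (L ≅ Coh.structureModule E) := by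
  choose V hxV e he using hloc
  -- the value along the section
  let σ : ∀ (U : E.Opens), Γ(L, U) → Γ(X, s ⁻¹ᵁ U) := fun U m => i.hom.app (s ⁻¹ᵁ U) (unitSec s L m)
  have σ_smul : ∀ (U : E.Opens) (a : Γ(E, U)) (m : Γ(L, U)), σ U (a • m) = (s.app U).hom a * σ U m :=
    fun U a m => by
      show i.hom.app _ (unitSec s L (a • m)) = _
      rw [unitSec_smul, Scheme.Modules.Hom.app_smul]
      rfl
  have σ_rs : ∀ {U U' : E.Opens} (h : U' ≤ U) (m : Γ(L, U)),
      σ U' (rs L h m) = rf ((Opens.map s.base).monotone h : s ⁻¹ᵁ U' ≤ s ⁻¹ᵁ U) (σ U m) :=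
    fun {U U'} h m => by
      show i.hom.app _ (unitSec s L (rs L h m)) = _
      rw [← unitSec_rs s h m, ← HomGlue.rs_app]
      rfl
  have σ_unit : ∀ x, IsUnit (σ _ (e x)) := fun x => by
    have h := isGen_of_isIso_over (isIso_over_of_iso i (s ⁻¹ᵁ (p ⁻¹ᵁ V x))) (isGen_unitSec s (he x))
    obtain ⟨a, ha⟩ := (h _ le_rfl).2 (one X (s ⁻¹ᵁ (p ⁻¹ᵁ V x)))
    refine IsUnit.of_mul_eq_one a ?_
    rw [mul_comm]
    simp only [rs_self] at ha
    exact ha
  have hpre : ∀ W : X.Opens, s ⁻¹ᵁ (p ⁻¹ᵁ W) = W := fun W => by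
    rw [← Scheme.Hom.comp_preimage, hsp]; rfl
  -- functions on the base, pulled back
  let π : ∀ W : X.Opens, Γ(X, s ⁻¹ᵁ (p ⁻¹ᵁ W)) →+* Γ(E, p ⁻¹ᵁ W) := fun W =>
    (p.app W).hom.comp (X.presheaf.map (homOfLE (hpre W).ge).op).hom
  have sπ : ∀ (W : X.Opens) (r : Γ(X, s ⁻¹ᵁ (p ⁻¹ᵁ W))), (s.app (p ⁻¹ᵁ W)).hom (π W r) = r := by
    intro W r
    have h2 : (s ≫ p).appLE W (s ⁻¹ᵁ (p ⁻¹ᵁ W)) le_rfl = X.presheaf.map (homOfLE (hpre W).le).op := by
      have key : ∀ (g : X ⟶ X), g = 𝟙 X → ∀ (W' : X.Opens) (h : W' ≤ g ⁻¹ᵁ W) (h' : W' ≤ W),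
          g.appLE W W' h = X.presheaf.map (homOfLE h').op := by
        rintro g rfl W' h h'
        rw [Scheme.Hom.appLE, Scheme.Hom.id_app]
        exact Category.id_comp _
      exact key _ hsp _ _ _
    show (s.app (p ⁻¹ᵁ W)).hom ((p.app W).hom (rf (hpre W).ge r)) = r
    have h3 : (s ≫ p).appLE W (s ⁻¹ᵁ (p ⁻¹ᵁ W)) le_rfl = p.app W ≫ s.app (p ⁻¹ᵁ W) := by
      exact ((s ≫ p).appLE_eq_app (U := W)).trans (Scheme.Hom.comp_app s p W)
    have h4 := congrArg (fun t => t.hom (rf (hpre W).ge r)) (h3.symm.trans h2)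
    refine h4.trans ?_
    show rf (hpre W).le (rf (hpre W).ge r) = r
    rw [rf_rf, rf_self]
  let e' : ∀ x, Γ(L, p ⁻¹ᵁ V x) := fun x => π (V x) ((σ_unit x).unit⁻¹ : (Γ(X, _))ˣ) • e x
  have he' : ∀ x, IsGen L (p ⁻¹ᵁ V x) (e' x) := fun x => Groth.Agent.Lib.TensorMod.GenLocal.isGen_smul (he x) ((Units.isUnit _).map _)
  have σe' : ∀ x, σ _ (e' x) = 1 := fun x => by
    rw [σ_smul, sπ]
    exact IsUnit.val_inv_mul (σ_unit x)
  have hU : (⨆ x, p ⁻¹ᵁ V x) = ⊤ := eq_top_iff.2 fun y _ => Opens.mem_iSup.2 ⟨p y, hxV (p y)⟩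
  obtain ⟨φ, -⟩ := HomGlue.exists_iso_of_gen (L := L) (M := Coh.structureModule E)
    (U := fun x => p ⁻¹ᵁ V x) hU e' he' (fun x => one E _) (fun x => isGen_one _) fun x y W hx hy c hc => by
      have h1 : p ⁻¹ᵁ (V x ⊓ V y) ≤ p ⁻¹ᵁ V x := (Opens.map p.base).monotone inf_le_left
      have h2 : p ⁻¹ᵁ (V x ⊓ V y) ≤ p ⁻¹ᵁ V y := (Opens.map p.base).monotone inf_le_right
      obtain ⟨u, hu⟩ := (he' y _ h2).2 (rs L h1 (e' x))
      simp only at hu
      obtain ⟨u', hu'⟩ := (he' x _ h1).2 (rs L h2 (e' y))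
      simp only at hu'
      have huu : IsUnit u := IsUnit.of_mul_eq_one u' ((he' x _ h1).1 (by
        show (u * u') • rs L h1 (e' x) = (1 : Γ(E, _)) • rs L h1 (e' x)
        rw [mul_smul, hu', hu, one_smul]))
      have hu1 : u = 1 := by
        refine hker _ u huu ?_
        have := congrArg (σ _) hu
        rw [σ_smul, σ_rs, σ_rs, σe', σe'] at this
        have one_rf : ∀ {A B : X.Opens} (h : A ≤ B), rf h (1 : Γ(X, B)) = 1 := fun h =>
          map_one (X.presheaf.map (homOfLE h).op).hom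
        rw [one_rf, one_rf, mul_one] at this
        exact this
      rw [hu1, one_smul] at hu
      have hW : W ≤ p ⁻¹ᵁ (V x ⊓ V y) := le_inf hx hy
      have hxy := congrArg (rs L hW) hu
      rw [rs_rs, rs_rs] at hxy
      have hc1 : c = 1 := (he' y W hy).1 (by
        show c • rs L hy (e' y) = (1 : Γ(E, W)) • rs L hy (e' y)
        rw [one_smul, ← hc]
        exact hxy.symm)
      rw [hc1, one_smul]
      exact (map_one (E.presheaf.map (homOfLE hx).op).hom).trans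
        (map_one (E.presheaf.map (homOfLE hy).op).hom).symm
  exact ⟨φ⟩

end Groth.Agent.H24.AffSpPic
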