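import Mathlib.RingTheory.PicardGroup
import Mathlib.RingTheory.MvPolynomial.Localization
import Mathlib.RingTheory.Localization.BaseChange
import Mathlib.RingTheory.Localization.Away.Basic

/-!
# Spreading out triviality of invertible modules over polynomial rings
-/

universe u

open MvPolynomial
open scoped TensorProduct

namespace Groth.Agent.H24.AffSpPic

variable {R : Type u} [CommRing R] {σ : Type u}

attribute [local instance] MvPolynomial.algebraMvPolynomial

/-- An invertible `R[σ]`-module trivial over `O[σ]`, `O` a localisation of `R`, is trivial over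
`R_f[σ]` for some `f` in the submonoid. -/
theorem exists_away (S : Submonoid R) (O : Type u) [CommRing O] [Algebra R O] [IsLocalization S O]
    (M : Type u) [AddCommGroup M] [Module (MvPolynomial σ R) M] [Module.Invertible (MvPolynomial σ R) M]
    (e : (MvPolynomial σ O) ⊗[MvPolynomial σ R] M ≃ₗ[MvPolynomial σ O] MvPolynomial σ O) :
    ∃ f ∈ S, Nonempty ((MvPolynomial σ (Localization.Away f)) ⊗[MvPolynomial σ R] M
      ≃ₗ[MvPolynomial σ (Localization.Away f)] MvPolynomial σ (Localization.Away f)) := by
  classical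
  set B := MvPolynomial σ R
  set L := MvPolynomial σ O
  set S' : Submonoid B := S.map (C (σ := σ))
  have : IsLocalization S' L := MvPolynomial.isLocalization S O
  set ι : M →ₗ[B] L ⊗[B] M := TensorProduct.mk B L M 1
  have : IsLocalizedModule S' ι := (isLocalizedModule_iff_isBaseChange S' L _).2 (TensorProduct.isBaseChange B M L)
  obtain ⟨⟨m, s⟩, hms⟩ := IsLocalizedModule.surj S' ι (e.symm 1)
  let N : Submodule B M := Submodule.span B {m}
  have hall : ∀ y : M, ∃ f ∈ S, (C (σ := σ) f : B) • y ∈ N := by
    intro y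
    obtain ⟨⟨b, t⟩, hbt⟩ := IsLocalization.surj S' (e (ι y))
    -- `t • ι y = b • e.symm 1`
    have h1 : (t : B) • ι y = b • e.symm 1 := by
      apply e.injective
      rw [← algebraMap_smul L (t : B) (ι y), ← algebraMap_smul L b (e.symm 1), map_smul, map_smul,
        e.apply_symm_apply, smul_eq_mul, smul_eq_mul, mul_one, mul_comm]
      exact hbt
    have h2 : ι (((s : B) * t) • y) = ι (b • m) := by
      have hms' : (s : B) • e.symm 1 = ι m := hms
      rw [map_smul, map_smul, mul_smul, h1, smul_comm, hms']
    obtain ⟨u, hu⟩ := IsLocalizedModule.exists_of_eq (S := S') (f := ι) h2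
    obtain ⟨u', hu', e1⟩ := u.2
    obtain ⟨s', hs', e2⟩ := s.2
    obtain ⟨t', ht', e3⟩ := t.2
    refine ⟨u' * (s' * t'), mul_mem hu' (mul_mem hs' ht'), ?_⟩
    rw [map_mul, map_mul, e1, e2, e3, mul_smul]
    have hu2 : (u : B) • ((s : B) * t) • y = (u : B) • b • m := hu
    rw [hu2]
    exact Submodule.smul_mem _ _ (Submodule.smul_mem _ _ (Submodule.mem_span_singleton_self m))
  have hfin : ∀ G : Finset M, ∃ f ∈ S, ∀ y ∈ G, (C (σ := σ) f : B) • y ∈ N := by
    intro G
    induction G using Finset.induction with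
    | empty => exact ⟨1, one_mem S, fun y hy => by simp at hy⟩
    | insert a G ha ih =>
      obtain ⟨f, hf, hfG⟩ := ih
      obtain ⟨g, hg, hga⟩ := hall a
      refine ⟨f * g, mul_mem hf hg, fun y hy => ?_⟩
      rw [map_mul]
      rcases Finset.mem_insert.1 hy with rfl | hy
      · rw [mul_smul]; exact Submodule.smul_mem _ _ hga
      · rw [mul_comm, mul_smul]; exact Submodule.smul_mem _ _ (hfG y hy)
  obtain ⟨G, hG⟩ := (Module.finite_def (R := B) (M := M)).1 inferInstance
  obtain ⟨f, hf, hfG⟩ := hfin G
  refine ⟨f, hf, ?_⟩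
  set A := MvPolynomial σ (Localization.Away f)
  let φ : A →ₗ[A] A ⊗[B] M := LinearMap.toSpanSingleton A _ (1 ⊗ₜ[B] m)
  have hu : IsUnit (algebraMap B A (C f)) := by
    rw [MvPolynomial.algebraMap_def, MvPolynomial.map_C]
    exact (IsLocalization.Away.algebraMap_isUnit (S := Localization.Away f) f).map C
  have hgen : ∀ y : M, (1 : A) ⊗ₜ[B] y ∈ LinearMap.range φ := by
    intro y
    have hy : y ∈ Submodule.span B (G : Set M) := hG ▸ Submodule.mem_top
    induction hy using Submodule.span_induction with
    | mem y hy =>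
      obtain ⟨b, hb⟩ := Submodule.mem_span_singleton.1 (hfG y hy)
      refine ⟨((hu.unit⁻¹ : Aˣ) : A) * algebraMap B A b, ?_⟩
      show (((hu.unit⁻¹ : Aˣ) : A) * algebraMap B A b) • ((1 : A) ⊗ₜ[B] m) = _
      rw [mul_smul, algebraMap_smul, ← TensorProduct.tmul_smul, hb, TensorProduct.tmul_smul,
        ← algebraMap_smul A (C f) ((1 : A) ⊗ₜ[B] y), smul_smul, IsUnit.val_inv_mul, one_smul]
    | zero => rw [TensorProduct.tmul_zero]; exact zero_mem _
    | add a b _ _ ha hb => rw [TensorProduct.tmul_add]; exact add_mem ha hb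
    | smul c a _ ha =>
      rw [TensorProduct.tmul_smul, ← algebraMap_smul A c]
      exact Submodule.smul_mem _ _ ha
  have hsurj : Function.Surjective φ := by
    rw [← LinearMap.range_eq_top, eq_top_iff]
    rintro z -
    induction z using TensorProduct.induction_on with
    | zero => exact zero_mem _
    | add a b ha hb => exact add_mem ha hb
    | tmul a y =>
      rw [show a ⊗ₜ[B] y = a • ((1 : A) ⊗ₜ[B] y) by rw [TensorProduct.smul_tmul', smul_eq_mul, mul_one]]
      exact Submodule.smul_mem _ _ (hgen y)
  exact ⟨(LinearEquiv.ofBijective φ (Module.Invertible.bijective_of_surjective hsurj)).symm⟩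

end Groth.Agent.H24.AffSpPic
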