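import Groth.Agent.H24.AffSpPic.Glue
import Groth.Agent.H24.AffSpPic.Spread
import Groth.Agent.H24.PicHens.Affine
import Mathlib.AlgebraicGeometry.AffineSpace
import Mathlib.AlgebraicGeometry.PullbackCarrier
import Mathlib.RingTheory.MvPolynomial.Basic
import Mathlib.Algebra.MvPolynomial.Nilpotent

/-!
# Invertible modules on affine spaces over reduced schemes
-/

universe u

noncomputable section

open CategoryTheory CategoryTheory.Limits AlgebraicGeometry TopologicalSpace Opposite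
open scoped TensorProduct

namespace Groth.Agent.H24.AffSpPic

open Groth.Agent.Lib.TensorMod Groth.Agent.Lib.TensorMod.Gen

attribute [local instance] MvPolynomial.algebraMvPolynomial

variable (σ : Type u) {X : Scheme.{u}}

/-- The chart of `𝔸(σ; X)` over a morphism from a spectrum. -/
def kOf {A : CommRingCat.{u}} (g : Spec A ⟶ X) : Spec (CommRingCat.of (MvPolynomial σ A)) ⟶ 𝔸(σ; X) :=
  (AffineSpace.SpecIso σ A).inv ≫ AffineSpace.map σ g

/-- The zero section. -/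
def zeroSec (X : Scheme.{u}) : X ⟶ 𝔸(σ; X) := AffineSpace.homOfVector (𝟙 X) 0

theorem zeroSec_over : zeroSec σ X ≫ (𝔸(σ; X) ↘ X) = 𝟙 X := AffineSpace.homOfVector_over _ _

theorem isPullback_kOf {A : CommRingCat.{u}} (g : Spec A ⟶ X) :
    IsPullback (kOf σ g) (Spec.map (CommRingCat.ofHom (MvPolynomial.C (σ := σ) (R := A)))) (𝔸(σ; X) ↘ X) g :=
  (AffineSpace.isPullback_map g).of_iso (AffineSpace.SpecIso σ A) (Iso.refl _) (Iso.refl _) (Iso.refl _)
    (by simp [kOf]) (by rw [← Iso.inv_comp_eq]; simp) (by simp) (by simp)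

theorem kOf_comp {A B : CommRingCat.{u}} (φ : A ⟶ B) (g : Spec A ⟶ X) :
    kOf σ (Spec.map φ ≫ g) =
      Spec.map (CommRingCat.ofHom (MvPolynomial.map (σ := σ) φ.hom)) ≫ kOf σ g := by
  rw [kOf, kOf, AffineSpace.map_comp, AffineSpace.map_SpecMap]
  simp

theorem isOpenImmersion_kOf {A : CommRingCat.{u}} (g : Spec A ⟶ X) [IsOpenImmersion g] :
    IsOpenImmersion (kOf σ g) :=
  MorphismProperty.of_isPullback (P := @IsOpenImmersion) (isPullback_kOf σ g).flip inferInstance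

theorem range_kOf {A : CommRingCat.{u}} (g : Spec A ⟶ X) :
    Set.range (kOf σ g) = (𝔸(σ; X) ↘ X) ⁻¹' Set.range g := by
  rw [← (isPullback_kOf σ g).isoPullback_hom_fst, Scheme.Hom.comp_base, TopCat.coe_comp,
    Set.range_comp, Set.range_eq_univ.mpr (isPullback_kOf σ g).isoPullback.hom.surjective,
    Set.image_univ]
  exact Scheme.Pullback.range_fst _ _

theorem comp_zeroSec {A : CommRingCat.{u}} (g : Spec A ⟶ X) :
    g ≫ zeroSec σ X =
      Spec.map (CommRingCat.ofHom (MvPolynomial.constantCoeff (σ := σ) (R := A))) ≫ kOf σ g := by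
  apply AffineSpace.hom_ext
  · rw [Category.assoc, zeroSec_over, Category.comp_id, Category.assoc, (isPullback_kOf σ g).w,
      ← Category.assoc, ← Spec.map_comp, ← CommRingCat.ofHom_comp]
    rw [show (MvPolynomial.constantCoeff (σ := σ) (R := A)).comp MvPolynomial.C = RingHom.id A from
      RingHom.ext fun a => MvPolynomial.constantCoeff_C σ a, CommRingCat.ofHom_id, Spec.map_id]
    exact (Category.id_comp g).symm
  · intro i
    rw [Scheme.Hom.comp_appTop, Scheme.Hom.comp_appTop, kOf, Scheme.Hom.comp_appTop]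
    simp only [CommRingCat.comp_apply, zeroSec]
    rw [AffineSpace.homOfVector_appTop_coord, AffineSpace.map_appTop_coord,
      AffineSpace.SpecIso_inv_appTop_coord, ← CommRingCat.comp_apply (g := (Spec.map _).appTop),
      ← Scheme.ΓSpecIso_inv_naturality, CommRingCat.comp_apply]
    simp

/-- Units on preimages of opens of a reduced scheme are detected by the zero section. -/
theorem units_detected [IsReduced X] (W : X.Opens) (a : Γ(𝔸(σ; X), (𝔸(σ; X) ↘ X) ⁻¹ᵁ W)) (ha : IsUnit a)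
    (h : ((zeroSec σ X).app ((𝔸(σ; X) ↘ X) ⁻¹ᵁ W)).hom a = 1) : a = 1 := by
  let p := 𝔸(σ; X) ↘ X
  have hcov : ∀ y : X, y ∈ W → ∃ V : X.Opens, IsAffineOpen V ∧ y ∈ V ∧ V ≤ W := fun y hy =>
    exists_isAffineOpen_mem_and_subset hy
  choose V hV hyV hVW using fun y : W => hcov y.1 y.2
  refine TopCat.Sheaf.eq_of_locally_eq' (𝔸(σ; X)).sheaf (fun y : W => p ⁻¹ᵁ V y) (p ⁻¹ᵁ W)
    (fun y => homOfLE (p.preimage_mono (hVW y))) ?_ a 1 fun y => ?_
  · intro z hz
    exact Opens.mem_iSup.2 ⟨⟨p z, hz⟩, hyV _⟩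
  set g := (hV y).fromSpec
  haveI := isOpenImmersion_kOf σ g
  have hrange : Set.range (kOf σ g) = (p ⁻¹ᵁ V y : Set 𝔸(σ; X)) := by
    rw [range_kOf, (hV y).range_fromSpec]; rfl
  have hle : (⊤ : (Spec (CommRingCat.of (MvPolynomial σ Γ(X, V y)))).Opens) ≤ kOf σ g ⁻¹ᵁ (p ⁻¹ᵁ V y) :=
    fun z _ => (Set.ext_iff.1 hrange _).1 ⟨z, rfl⟩
  -- the restricted section as a polynomial
  set F := ((kOf σ g).appLE (p ⁻¹ᵁ V y) ⊤ hle) ≫ (Scheme.ΓSpecIso _).hom with hF
  have hFinj : Function.Injective F.hom := by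
    haveI : IsIso ((kOf σ g).app (p ⁻¹ᵁ V y)) :=
      (kOf σ g).isIso_app _ fun z hz => (Set.ext_iff.1 hrange z).2 hz
    haveI : IsIso ((kOf σ g).appLE (p ⁻¹ᵁ V y) ⊤ hle) := by
      rw [Scheme.Hom.appLE]
      have : homOfLE hle = eqToHom (le_antisymm hle le_top) := rfl
      rw [this]
      infer_instance
    exact (ConcreteCategory.bijective_of_isIso F).1
  set r : Γ(𝔸(σ; X), p ⁻¹ᵁ V y) := (𝔸(σ; X)).presheaf.map (homOfLE (p.preimage_mono (hVW y))).op a with hr
  have hwu : IsUnit (F.hom r) := (ha.map _).map _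
  obtain ⟨c, hc, hwc⟩ := MvPolynomial.isUnit_iff_eq_C_of_isReduced.1 hwu
  have h1 : ((zeroSec σ X).app (p ⁻¹ᵁ V y)).hom r = 1 := by
    have := congrArg (fun t => t.hom a) ((zeroSec σ X).naturality (homOfLE (p.preimage_mono (hVW y))).op)
    refine this.trans ?_
    show (X.presheaf.map _).hom (((zeroSec σ X).app (p ⁻¹ᵁ W)).hom a) = 1
    rw [h, map_one]
  have h2 : MvPolynomial.constantCoeff (F.hom r) = 1 := by
    let cc := CommRingCat.ofHom (MvPolynomial.constantCoeff (σ := σ) (R := Γ(X, V y)))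
    have hle' : (⊤ : (Spec Γ(X, V y)).Opens) ≤ g ⁻¹ᵁ (zeroSec σ X ⁻¹ᵁ (p ⁻¹ᵁ V y)) := fun z _ => by
      show (g ≫ zeroSec σ X) z ∈ p ⁻¹ᵁ V y
      rw [comp_zeroSec σ g]
      exact hle trivial
    have e1 : (zeroSec σ X).app (p ⁻¹ᵁ V y) ≫ g.appLE _ ⊤ hle' =
        (g ≫ zeroSec σ X).appLE (p ⁻¹ᵁ V y) ⊤ hle' :=
      (Scheme.Hom.comp_appLE g (zeroSec σ X) (p ⁻¹ᵁ V y) ⊤ hle').symm
    have e2 : (g ≫ zeroSec σ X).appLE (p ⁻¹ᵁ V y) ⊤ hle' =
        (kOf σ g).appLE (p ⁻¹ᵁ V y) ⊤ hle ≫ (Spec.map cc).appTop := by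
      have key : ∀ (q : Spec Γ(X, V y) ⟶ 𝔸(σ; X)) (_ : q = Spec.map cc ≫ kOf σ g) (hq : ⊤ ≤ q ⁻¹ᵁ (p ⁻¹ᵁ V y)),
          q.appLE (p ⁻¹ᵁ V y) ⊤ hq = (kOf σ g).appLE (p ⁻¹ᵁ V y) ⊤ hle ≫ (Spec.map cc).appTop := by
        rintro _ rfl hq
        rw [← Scheme.Hom.appLE_comp_appLE (Spec.map cc) (kOf σ g) (p ⁻¹ᵁ V y) ⊤ ⊤ hle le_top]
        exact congrArg _ (Spec.map cc).appLE_eq_app
      exact key _ (comp_zeroSec σ g) _
    have e3 := congrArg (fun t => t.hom r) (e1.trans e2)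
    have e4 : (Spec.map cc).appTop ((kOf σ g).appLE (p ⁻¹ᵁ V y) ⊤ hle r) = 1 :=
      e3.symm.trans ((congrArg (g.appLE _ ⊤ hle').hom h1).trans (map_one _))
    have e5 := congrArg (fun t => t.hom ((kOf σ g).appLE (p ⁻¹ᵁ V y) ⊤ hle r)) (Scheme.ΓSpecIso_naturality cc)
    refine e5.symm.trans ?_
    show (Scheme.ΓSpecIso _).hom ((Spec.map cc).appTop ((kOf σ g).appLE (p ⁻¹ᵁ V y) ⊤ hle r)) = 1
    rw [e4]
    exact map_one _
  have h3 : F.hom r = 1 := by
    rw [hwc, MvPolynomial.constantCoeff_C] at h2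
    rw [hwc, h2, map_one]
  exact (hFinj (h3.trans (map_one F.hom).symm)).trans (map_one _).symm

/-- Triviality of all invertible modules over `O[σ]`, `O` the local rings, spreads to generators over
preimages of neighbourhoods. -/
theorem exists_gen (L : (𝔸(σ; X)).Modules) (hL : PicF.IsInvertible L) (x : X) {V : X.Opens}
    (hV : IsAffineOpen V) (hx : x ∈ V)
    (hfree : ∀ (M : Type u) [AddCommGroup M] [Module (MvPolynomial σ (X.presheaf.stalk x)) M]
      [Module.Invertible (MvPolynomial σ (X.presheaf.stalk x)) M],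
      Nonempty (M ≃ₗ[MvPolynomial σ (X.presheaf.stalk x)] MvPolynomial σ (X.presheaf.stalk x))) :
    ∃ (W : X.Opens) (_ : x ∈ W) (e : Γ(L, (𝔸(σ; X) ↘ X) ⁻¹ᵁ W)), IsGen L _ e := by
  set p := 𝔸(σ; X) ↘ X
  letI : Algebra Γ(X, V) (X.presheaf.stalk x) := (X.presheaf.germ V x hx).hom.toAlgebra
  haveI : IsLocalization.AtPrime (X.presheaf.stalk x) (hV.primeIdealOf ⟨x, hx⟩).asIdeal :=
    hV.isLocalization_stalk ⟨x, hx⟩
  set g := hV.fromSpec
  obtain ⟨M, hM, ⟨iM⟩⟩ := PicHens.exists_invertible (A := MvPolynomial σ Γ(X, V))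
    ((Scheme.Modules.pullback (kOf σ g)).obj L) (LocFree.isInvertible_of_rank_one (LocFree.rank_pullback _ (LocFree.of_isInvertible hL)))
  obtain ⟨f, hf, ⟨e⟩⟩ := exists_away (R := Γ(X, V)) (σ := σ) (hV.primeIdealOf ⟨x, hx⟩).asIdeal.primeCompl
    (X.presheaf.stalk x) M (hfree _).some
  let A := CommRingCat.of (Localization.Away (f : Γ(X, V)))
  let φ : Γ(X, V) ⟶ A := CommRingCat.ofHom (algebraMap Γ(X, V) (Localization.Away (f : Γ(X, V))))
  haveI : IsOpenImmersion (Spec.map φ) := IsOpenImmersion.of_isLocalization (f : Γ(X, V))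
  set g' := Spec.map φ ≫ g
  haveI := isOpenImmersion_kOf σ g'
  refine ⟨g'.opensRange, ⟨?_, ?_⟩⟩
  · have hmem : hV.primeIdealOf ⟨x, hx⟩ ∈ Set.range (Spec.map φ) := by
      change hV.primeIdealOf ⟨x, hx⟩ ∈ Set.range (PrimeSpectrum.comap (algebraMap Γ(X, V) (Localization.Away (f : Γ(X, V)))))
      rw [PrimeSpectrum.localization_away_comap_range (Localization.Away (f : Γ(X, V))) f]
      exact hf
    obtain ⟨z, hz⟩ := hmem
    exact ⟨z, (congrArg g hz).trans (hV.fromSpec_primeIdealOf ⟨x, hx⟩)⟩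
  set U := p ⁻¹ᵁ g'.opensRange
  have hr : Set.range (kOf σ g') = (U : Set 𝔸(σ; X)) := range_kOf σ g'
  let ε : (U : Scheme.{u}) ≅ Spec (CommRingCat.of (MvPolynomial σ A)) :=
    IsOpenImmersion.isoOfRangeEq U.ι (kOf σ g') (by rw [Scheme.Opens.range_ι, hr])
  have hε : ε.hom ≫ kOf σ g' = U.ι := IsOpenImmersion.isoOfRangeEq_hom_fac _ _ _
  let triv : (Scheme.Modules.pullback (kOf σ g')).obj L ≅ Coh.structureModule _ :=
    (Scheme.Modules.pullbackCongr (kOf_comp σ φ g)).app L ≪≫ ((Scheme.Modules.pullbackComp _ _).app L).symm ≪≫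
      (Scheme.Modules.pullback _).mapIso iM.symm ≪≫ PicHens.pullIso M ≪≫
      (tilde.functor _).mapIso e.toModuleIso ≪≫ tildeSelf
  refine exists_gen_of_iso (L := L) (U := U) ?_
  exact (Scheme.Modules.restrictFunctorIsoPullback U.ι).app L ≪≫
    (Scheme.Modules.pullbackCongr hε.symm).app L ≪≫ ((Scheme.Modules.pullbackComp _ _).app L).symm ≪≫
    (Scheme.Modules.pullback ε.hom).mapIso triv ≪≫ PicLoc.pullbackStructureIso ε.hom

/-- An invertible module on affine space over a reduced scheme, trivial along the zero section, is trivial,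
if invertible modules on affine space over the local rings are trivial. -/
theorem trivial_of_zeroSec [IsReduced X] (L : (𝔸(σ; X)).Modules) (hL : PicF.IsInvertible L)
    (hfree : ∀ (x : X) (M : Type u) [AddCommGroup M] [Module (MvPolynomial σ (X.presheaf.stalk x)) M]
      [Module.Invertible (MvPolynomial σ (X.presheaf.stalk x)) M],
      Nonempty (M ≃ₗ[MvPolynomial σ (X.presheaf.stalk x)] MvPolynomial σ (X.presheaf.stalk x)))
    (i : (Scheme.Modules.pullback (zeroSec σ X)).obj L ≅ Coh.structureModule X) :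
    Nonempty (L ≅ Coh.structureModule 𝔸(σ; X)) := by
  refine trivial_of_local (p := 𝔸(σ; X) ↘ X) (s := zeroSec σ X) (zeroSec_over σ) L (fun x => ?_)
    (fun W a ha h => units_detected σ W a ha h) i
  obtain ⟨V, hV, hx, -⟩ := exists_isAffineOpen_mem_and_subset (X := X) (x := x) (U := ⊤) trivial
  exact exists_gen σ L hL x hV hx (hfree x)

end Groth.Agent.H24.AffSpPic
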